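import Groth.Agent.Lib.AlgSpRed.Stalk
import Groth.Agent.Lib.AlgSpMor.LocP
import Groth.Prelude.Def_FDesc

/-!
# Geometric reducedness of algebraic spaces over a field, read on charts
-/

set_option autoImplicit false
set_option backward.isDefEq.respectTransparency false
set_option backward.isDefEq.respectTransparency.types false

universe u

open CategoryTheory CategoryTheory.Limits AlgebraicGeometry
open AlgSp Groth.Agent.Lib.AlgSpace

namespace Groth.Agent.Lib.AlgSpGeomRed

variable {k : Type u} [Field k]

/-- The base change of an etale morphism of schemes over a field. -/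
noncomputable def bcMap {U V : Scheme.{u}} (f : U ⟶ Spec (CommRingCat.of k)) (g : V ⟶ Spec (CommRingCat.of k))
    (p : U ⟶ V) (hp : p ≫ g = f) (K : Type u) [Field K] [Algebra k K] : FBase.bc f K ⟶ FBase.bc g K :=
  pullback.map f _ g _ p (𝟙 _) (𝟙 _) (by rw [Category.comp_id, hp]) (by rw [Category.comp_id, Category.id_comp])

theorem isPullback_bcMap {U V : Scheme.{u}} (f : U ⟶ Spec (CommRingCat.of k)) (g : V ⟶ Spec (CommRingCat.of k))
    (p : U ⟶ V) (hp : p ≫ g = f) (K : Type u) [Field K] [Algebra k K] :
    IsPullback (bcMap f g p hp K) (FBase.bcπ f K) (FBase.bcπ g K) p := by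
  refine IsPullback.of_right ?_ (pullback.lift_fst _ _ _) (IsPullback.of_hasPullback g _).flip
  simp only [bcMap, pullback.map, pullback.lift_snd, Category.comp_id, hp]
  exact (IsPullback.of_hasPullback f _).flip

/-- Geometric reducedness at a point is insensitive to etale morphisms. -/
theorem isGeomReducedAt_iff_of_etale {U V : Scheme.{u}} {f : U ⟶ Spec (CommRingCat.of k)}
    {g : V ⟶ Spec (CommRingCat.of k)} (p : U ⟶ V) [Etale p] (hp : p ≫ g = f) (x : U) :
    FBase.IsGeomReducedAt f x ↔ FBase.IsGeomReducedAt g (p x) := by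
  have he : ∀ (K : Type u) [Field K] [Algebra k K], Etale (bcMap f g p hp K) := fun K _ _ =>
    MorphismProperty.of_isPullback (isPullback_bcMap f g p hp K).flip inferInstance
  constructor
  · intro h K _ _ y hy
    have := he K
    obtain ⟨z, hz₁, hz₂⟩ := Scheme.exists_preimage_of_isPullback (isPullback_bcMap f g p hp K) y x hy
    have := h K z hz₂
    subst hz₁
    exact AlgSpRed.Stalk.reduced_of_flat (bcMap f g p hp K) z
  · intro h K _ _ z hz
    have := he K
    have := h K (bcMap f g p hp K z) (by
      subst hz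
      exact congrArg (fun m : FBase.bc f K ⟶ V => m z) (isPullback_bcMap f g p hp K).w)
    exact AlgSpRed.Stalk.reduced_of_etale (bcMap f g p hp K) z

variable {X : Sp (Spec (CommRingCat.of k))}

/-- Two charts through a point see the same geometric reducedness. -/
theorem isGeomReducedAt_congr (hX : Representable (Limits.diag X)) {U V : Over (Spec (CommRingCat.of k))}
    {a : (yon (Spec (CommRingCat.of k))).obj U ⟶ X} {b : (yon (Spec (CommRingCat.of k))).obj V ⟶ X}
    (ha : RepWith @Etale a) (hb : RepWith @Etale b) {u : ↥U.left} {v : ↥V.left}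
    (h : Points.ofPt a u = Points.ofPt b v) :
    FBase.IsGeomReducedAt U.hom u ↔ FBase.IsGeomReducedAt V.hom v := by
  obtain ⟨R, p, q, sq⟩ := exists_isPullback_yon hX a b
  have : Etale p.left := repWith_property hb sq.flip
  have : Etale q.left := repWith_property ha sq
  obtain ⟨r, rfl, rfl⟩ := (ofPt_eq_ofPt_iff_of_isPullback sq u v).1 h
  rw [← isGeomReducedAt_iff_of_etale p.left (Over.w p), ← isGeomReducedAt_iff_of_etale q.left (Over.w q)]

/-- Two charts of a space over a field extension, with compatible structure maps, agree. -/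
theorem isGeomReducedAt_congr' {K : Type u} [Field K] (hX : Representable (Limits.diag X))
    {t : Over (Spec (CommRingCat.of k))} {π : X ⟶ (yon (Spec (CommRingCat.of k))).obj t}
    (e : t.left ⟶ Spec (CommRingCat.of K)) {U V : Over (Spec (CommRingCat.of k))}
    {a : (yon (Spec (CommRingCat.of k))).obj U ⟶ X} {b : (yon (Spec (CommRingCat.of k))).obj V ⟶ X}
    (ha : RepWith @Etale a) (hb : RepWith @Etale b) {qU : U ⟶ t} {qV : V ⟶ t}
    (hU : a ≫ π = (yon (Spec (CommRingCat.of k))).map qU) (hV : b ≫ π = (yon (Spec (CommRingCat.of k))).map qV)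
    {u : ↥U.left} {v : ↥V.left} (h : Points.ofPt a u = Points.ofPt b v) :
    FBase.IsGeomReducedAt (qU.left ≫ e) u ↔ FBase.IsGeomReducedAt (qV.left ≫ e) v := by
  obtain ⟨R, p, q, sq⟩ := exists_isPullback_yon hX a b
  have : Etale p.left := repWith_property hb sq.flip
  have : Etale q.left := repWith_property ha sq
  obtain ⟨r, rfl, rfl⟩ := (ofPt_eq_ofPt_iff_of_isPullback sq u v).1 h
  have e' : p ≫ qU = q ≫ qV := (yon _).map_injective (by
    rw [Functor.map_comp, Functor.map_comp, ← hU, ← hV, ← Category.assoc, sq.w, Category.assoc])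
  rw [← isGeomReducedAt_iff_of_etale (f := p.left ≫ qU.left ≫ e) p.left rfl,
    ← isGeomReducedAt_iff_of_etale (f := q.left ≫ qV.left ≫ e) q.left rfl,
    show p.left ≫ qU.left ≫ e = q.left ≫ qV.left ≫ e by
      rw [← Category.assoc, ← Over.comp_left, e', Over.comp_left, Category.assoc]]

/-! ### The chart of a base change -/

variable {S : Scheme.{u}} (U t : Over S)

/-- The product of two schemes over `S`. -/
noncomputable abbrev prodObj : Over S := Over.mk (pullback.fst U.hom t.hom ≫ U.hom)

noncomputable abbrev prodFst : prodObj U t ⟶ U := Over.homMk (pullback.fst U.hom t.hom) rfl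

noncomputable abbrev prodSnd : prodObj U t ⟶ t := Over.homMk (pullback.snd U.hom t.hom) pullback.condition.symm

variable {U} {F : Sp S} (a : (yon S).obj U ⟶ F)

/-- The chart of `F ⨯ h_t` induced by a chart of `F`. -/
noncomputable def prodChart : (yon S).obj (prodObj U t) ⟶ F ⨯ (yon S).obj t :=
  prod.lift ((yon S).map (prodFst U t) ≫ a) ((yon S).map (prodSnd U t))

theorem prodChart_fst : prodChart t a ≫ prod.fst = (yon S).map (prodFst U t) ≫ a := prod.lift_fst _ _

theorem prodChart_snd : prodChart t a ≫ prod.snd = (yon S).map (prodSnd U t) := prod.lift_snd _ _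

theorem isPullback_prodChart : IsPullback ((yon S).map (prodFst U t)) (prodChart t a) a prod.fst := by
  refine isPullback_of_yon (prodChart_fst t a).symm (fun T c c' h₁ h₂ => ?_) fun T z w h => ?_
  · obtain ⟨c, rfl⟩ := (yon S).map_surjective c
    obtain ⟨c', rfl⟩ := (yon S).map_surjective c'
    have h₃ := congrArg (· ≫ (prod.snd : F ⨯ (yon S).obj t ⟶ _)) h₂
    simp only [Category.assoc, prodChart_snd] at h₃
    rw [← Functor.map_comp, ← Functor.map_comp] at h₁ h₃
    refine congrArg (yon S).map (Over.OverMorphism.ext (pullback.hom_ext ?_ ?_))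
    · exact congrArg CommaMorphism.left ((yon S).map_injective h₁)
    · exact congrArg CommaMorphism.left ((yon S).map_injective h₃)
  · obtain ⟨z, rfl⟩ := (yon S).map_surjective z
    obtain ⟨w', hw'⟩ := (yon S).map_surjective (w ≫ prod.snd)
    let c : T ⟶ prodObj U t := Over.homMk (pullback.lift z.left w'.left ((Over.w z).trans (Over.w w').symm))
      (by show pullback.lift _ _ _ ≫ pullback.fst _ _ ≫ U.hom = T.hom
          rw [pullback.lift_fst_assoc]; exact Over.w z)
    have h₁ : c ≫ prodFst U t = z := Over.OverMorphism.ext (pullback.lift_fst _ _ _)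
    have h₂ : c ≫ prodSnd U t = w' := Over.OverMorphism.ext (pullback.lift_snd _ _ _)
    refine ⟨(yon S).map c, by rw [← Functor.map_comp, h₁], prod.hom_ext ?_ ?_⟩
    · rw [Category.assoc, prodChart_fst, ← Category.assoc, ← Functor.map_comp, h₁, h]
    · rw [Category.assoc, prodChart_snd, ← Functor.map_comp, h₂, hw']

variable {a}

theorem repWith_prodChart {P : MorphismProperty Scheme.{u}} (h : RepWith P a) : RepWith P (prodChart t a) :=
  repWith_baseChange (isPullback_prodChart t a) h

theorem exists_ofPt_prodChart {u : ↥U.left} (x : Points (F ⨯ (yon S).obj t))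
    (h : Points.map (prod.fst : F ⨯ (yon S).obj t ⟶ F) x = Points.ofPt a u) :
    ∃ v : ↥(prodObj U t).left, pullback.fst U.hom t.hom v = u ∧ Points.ofPt (prodChart t a) v = x := by
  obtain ⟨z, hz₁, hz₂⟩ := exists_of_isPullback (isPullback_prodChart t a)
    (Points.ofPt (𝟙 ((yon S).obj U)) u) x (by rw [Points.map_ofPt, Category.id_comp, h])
  obtain ⟨T, g, τ, rfl⟩ := exists_ofPt_eq z
  obtain ⟨c, rfl⟩ := (yon S).map_surjective g
  refine ⟨c.left τ, ?_, ?_⟩
  · rw [Points.map_ofPt, ← Functor.map_comp, ← Category.comp_id ((yon S).map (c ≫ prodFst U t)),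
      ofPt_yon_map_comp] at hz₁
    have := congrArg (Points.toScheme U) hz₁
    rw [← (yon S).map_id, Points.toScheme_ofPt, Points.toScheme_ofPt] at this
    exact this
  · rw [← ofPt_yon_map_comp, ← hz₂, Points.map_ofPt]

end Groth.Agent.Lib.AlgSpGeomRed
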