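import Groth.Agent.Lib.AlgSpGeomRed.Basic
import Groth.Agent.S1545
import Groth.Agent.S2535

/-!
# Geometric reducedness of algebraic spaces and field extensions
-/

set_option autoImplicit false
set_option backward.isDefEq.respectTransparency false
set_option backward.isDefEq.respectTransparency.types false

universe u

open CategoryTheory CategoryTheory.Limits AlgebraicGeometry
open AlgSp Groth.Agent.Lib.AlgSpace

namespace Groth.Agent.Lib.AlgSpGeomRed

variable {k : Type u} [Field k]

/-- `GR`: geometrically reduced at a point, some chart. -/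
def GRAt (X : Sp (Spec (CommRingCat.of k))) (x : Points X) : Prop :=
  ∃ (U : Over (Spec (CommRingCat.of k))) (a : (yon (Spec (CommRingCat.of k))).obj U ⟶ X) (u : ↥U.left),
    RepWith @Etale a ∧ Points.ofPt a u = x ∧ FBase.IsGeomReducedAt U.hom u

variable (X : AlgSp.Space (Spec (CommRingCat.of k)))

theorem grAt_iff {U : Over (Spec (CommRingCat.of k))} {a : (yon (Spec (CommRingCat.of k))).obj U ⟶ X.obj}
    (ha : RepWith @Etale a) (u : ↥U.left) : GRAt X.obj (Points.ofPt a u) ↔ FBase.IsGeomReducedAt U.hom u :=
  ⟨fun ⟨_, _, _, hb, e, hv⟩ => (isGeomReducedAt_congr X.property.diag hb ha e).1 hv,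
    fun h => ⟨U, a, u, ha, rfl, h⟩⟩

theorem forall_grAt_iff {U : Over (Spec (CommRingCat.of k))} {a : (yon (Spec (CommRingCat.of k))).obj U ⟶ X.obj}
    (ha : RepWith @Etale a) (hs : RepWith @Surjective a) :
    (∀ x, GRAt X.obj x) ↔ ∀ u : ↥U.left, FBase.IsGeomReducedAt U.hom u := by
  refine ⟨fun h u => (grAt_iff X ha u).1 (h _), fun h x => ?_⟩
  obtain ⟨u, rfl⟩ := surjective_ofPt hs x
  exact (grAt_iff X ha u).2 (h u)

/-- The object `Spec K` over `k`. -/
noncomputable abbrev specObj (k : Type u) [Field k] (K : Type u) [Field K] [Algebra k K] :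
    Over (Spec (CommRingCat.of k)) :=
  Over.mk (Spec.map (CommRingCat.ofHom (algebraMap k K)))

/-- A base change is reduced iff the base change of one atlas is. -/
theorem isReducedSp_bc_iff {U : Over (Spec (CommRingCat.of k))} {a : (yon (Spec (CommRingCat.of k))).obj U ⟶ X.obj}
    (ha : RepWith @Etale a) (hs : RepWith @Surjective a) (K : Type u) [Field K] [Algebra k K] :
    EtaleLocally (fun U => IsReduced U) (X.obj ⨯ (yon (Spec (CommRingCat.of k))).obj (specObj k K)) ↔
      IsReduced (FBase.bc U.hom K) := by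
  constructor
  · intro h
    exact AlgSpRed.Stalk.isReduced_chart (isAlgSpace_prod X.property (IsAlgSpace.yon_obj _)).diag h
      (repWith_prodChart (specObj k K) ha)
  · intro h
    exact ⟨prodObj U (specObj k K), prodChart _ a, repWith_prodChart _ ha, repWith_prodChart _ hs, h⟩

theorem geometricallyReduced_of_forall {V : Scheme.{u}} {f : V ⟶ Spec (CommRingCat.of k)}
    (h : ∀ v : V, FBase.IsGeomReducedAt f v) (K : Type u) [Field K] [Algebra k K] : IsReduced (FBase.bc f K) :=
  have : ∀ z : FBase.bc f K, _root_.IsReduced ((FBase.bc f K).presheaf.stalk z) := fun z => h _ K z rfl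
  isReduced_of_isReduced_stalk _

theorem isGeomReducedAt_of_forall {V : Scheme.{u}} {f : V ⟶ Spec (CommRingCat.of k)}
    (h : ∀ (K : Type u) [Field K] [Algebra k K], IsReduced (FBase.bc f K)) (v : V) :
    FBase.IsGeomReducedAt f v := fun K _ _ z _ => have := h K; inferInstance

theorem isReduced_bc_of_geometricallyReduced {V : Scheme.{u}} (f : V ⟶ Spec (CommRingCat.of k))
    [GeometricallyReduced f] (K : Type u) [Field K] [Algebra k K] : IsReduced (FBase.bc f K) :=
  GeometricallyReduced.geometrically_isReduced (f := f) _ _ _ (.of_hasPullback _ _)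

/-- If the base change to a perfect extension is reduced, all are. -/
theorem isReducedSp_bc_of_perfect (Ω : Type u) [Field Ω] [Algebra k Ω] [PerfectField Ω]
    (h : EtaleLocally (fun U => IsReduced U) (X.obj ⨯ (yon (Spec (CommRingCat.of k))).obj (specObj k Ω)))
    (K : Type u) [Field K] [Algebra k K] :
    EtaleLocally (fun U => IsReduced U) (X.obj ⨯ (yon (Spec (CommRingCat.of k))).obj (specObj k K)) := by
  obtain ⟨U, a, ha, hs⟩ := X.property.atlas
  have := (isReducedSp_bc_iff X ha hs Ω).1 h
  have := Groth.Agent.S2535.result (Ω := Ω) U.hom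
  exact (isReducedSp_bc_iff X ha hs K).2 (isReduced_bc_of_geometricallyReduced U.hom K)

end Groth.Agent.Lib.AlgSpGeomRed
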